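import Mathlib

/-!
# Dietzmann's lemma with a bound

A finite conjugation-invariant set of elements of bounded exponent generates a finite subgroup.
-/

set_option autoImplicit false

namespace CfsgLib.HallGen.Dietzmann

variable {G : Type*} [Group G] {S : Set G}

theorem extract [DecidableEq G] (hS : ∀ g ∈ Subgroup.closure S, ∀ t ∈ S, g * t * g⁻¹ ∈ S) {s : G} (hs : s ∈ S) :
    ∀ (l : List G), (∀ x ∈ l, x ∈ S) → ∀ k, k ≤ l.count s →
      ∃ l' : List G, (∀ x ∈ l', x ∈ S) ∧ l'.length + k = l.length ∧ l.prod = s ^ k * l'.prod := by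
  intro l
  induction l with
  | nil => intro _ k hk; exact ⟨[], by simp, by simpa using hk, by simp_all⟩
  | cons t r ih =>
    intro hl k hk
    have hr : ∀ x ∈ r, x ∈ S := fun x hx => hl x (List.mem_cons_of_mem _ hx)
    rcases k.eq_zero_or_pos with rfl | hk0
    · exact ⟨t :: r, hl, by simp, by simp⟩
    by_cases hts : t = s
    · subst hts
      rw [List.count_cons_self] at hk
      obtain ⟨l', h1, h2, h3⟩ := ih hr (k - 1) (by omega)
      refine ⟨l', h1, by simp only [List.length_cons]; omega, ?_⟩
      rw [List.prod_cons, h3, ← mul_assoc, ← pow_succ', show k - 1 + 1 = k by omega]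
    · rw [List.count_cons_of_ne hts] at hk
      obtain ⟨l', h1, h2, h3⟩ := ih hr k hk
      refine ⟨(s ^ k)⁻¹ * t * s ^ k :: l', ?_, by simp only [List.length_cons]; omega, ?_⟩
      · intro x hx
        rcases List.mem_cons.1 hx with rfl | hx
        · simpa using hS _ (inv_mem (pow_mem (Subgroup.subset_closure hs) k)) t (hl t List.mem_cons_self)
        · exact h1 x hx
      · simp only [List.prod_cons, h3, mul_assoc, mul_inv_cancel_left]

/-- Dietzmann's lemma. -/
theorem card_closure_le [Finite G] (hS : ∀ g : G, ∀ t ∈ S, g * t * g⁻¹ ∈ S) {M N : ℕ} (hM : 0 < M)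
    (hord : ∀ s ∈ S, s ^ M = 1) (hN : Nat.card S ≤ N) :
    Nat.card (Subgroup.closure S) ≤ (N + 1) ^ (M * N) := by
  classical
  have hS' : ∀ g ∈ Subgroup.closure S, ∀ t ∈ S, g * t * g⁻¹ ∈ S := fun g _ => hS g
  have hlist : ∀ h ∈ Subgroup.closure S, ∃ l : List G, (∀ x ∈ l, x ∈ S) ∧ l.prod = h := by
    intro h hh
    have hm : h ∈ Submonoid.closure S := by
      rw [← Subgroup.closure_toSubmonoid_of_finite]
      exact hh
    exact Submonoid.exists_list_of_mem_closure hm
  have hshort : ∀ h ∈ Subgroup.closure S, ∃ l : List G, (∀ x ∈ l, x ∈ S) ∧ l.prod = h ∧ l.length ≤ M * N := by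
    intro h hh
    obtain ⟨l₀, hl₀, hp₀⟩ := hlist h hh
    have hex : ∃ n, ∃ l : List G, (∀ x ∈ l, x ∈ S) ∧ l.prod = h ∧ l.length = n := ⟨_, l₀, hl₀, hp₀, rfl⟩
    obtain ⟨l, hl, hp, hlen⟩ := Nat.find_spec hex
    refine ⟨l, hl, hp, ?_⟩
    by_contra hlt
    obtain ⟨s, hsl, hsc⟩ : ∃ s ∈ l.toFinset, M ≤ l.count s := by
      by_contra hc
      push_neg at hc
      have h1 : l.length = ∑ s ∈ l.toFinset, l.count s := (List.sum_toFinset_count_eq_length l).symm
      have h2 : ∑ s ∈ l.toFinset, l.count s ≤ l.toFinset.card * M := by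
        refine (Finset.sum_le_card_nsmul _ _ M fun s hs => (hc s hs).le).trans ?_
        rw [smul_eq_mul]
      have h3 : l.toFinset.card ≤ N := by
        refine le_trans ?_ hN
        rw [← Nat.card_eq_finsetCard]
        exact Nat.card_le_card_of_injective (fun x : l.toFinset => (⟨x.1, hl _ (List.mem_toFinset.1 x.2)⟩ : S))
          fun a b hab => Subtype.ext (congrArg (fun z : S => (z : G)) hab)
      have := h2.trans (Nat.mul_le_mul_right M h3)
      rw [← h1, Nat.mul_comm] at this
      exact hlt this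
    have hsS : s ∈ S := hl s (List.mem_toFinset.1 hsl)
    obtain ⟨l', h1, h2, h3⟩ := extract hS' hsS l hl M hsc
    rw [hord s hsS, one_mul, hp] at h3
    exact Nat.find_min hex (m := l'.length) (by omega) ⟨l', h1, h3.symm, rfl⟩
  let F : (Fin (M * N) → Option S) → G := fun t => (List.ofFn fun i => ((t i).map Subtype.val).getD 1).prod
  have hsurj : (Subgroup.closure S : Set G) ⊆ Set.range F := by
    intro h hh
    obtain ⟨l, hl, hp, hlen⟩ := hshort h hh
    refine ⟨fun i => if hi : (i : ℕ) < l.length then some ⟨l[(i : ℕ)], hl _ (List.getElem_mem hi)⟩ else none, ?_⟩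
    show (List.ofFn _).prod = h
    have hofn : (List.ofFn fun i : Fin (M * N) =>
        ((if hi : (i : ℕ) < l.length then some (⟨l[(i : ℕ)], hl _ (List.getElem_mem hi)⟩ : S) else none).map
          Subtype.val).getD 1) = l ++ List.replicate (M * N - l.length) 1 := by
      refine List.ext_getElem (by simp; omega) fun i h1 h2 => ?_
      rw [List.getElem_ofFn, List.getElem_append]
      by_cases hi : i < l.length <;> simp [hi]
    rw [hofn, List.prod_append, List.prod_replicate, one_pow, mul_one, hp]
  calc Nat.card (Subgroup.closure S) ≤ Nat.card (Set.range F) :=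
        Nat.card_mono (Set.finite_range F) hsurj
    _ ≤ Nat.card (Fin (M * N) → Option S) := Finite.card_range_le F
    _ ≤ (N + 1) ^ (M * N) := by
        rw [Nat.card_fun, Nat.card_fin, Finite.card_option]
        exact Nat.pow_le_pow_left (by omega) _

end CfsgLib.HallGen.Dietzmann
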