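import Cfsg.Agent.Lib.HallGen.CoprimeDerived.Dietzmann
import Cfsg.Agent.Lib.Core.Coprime
import Cfsg.Agent.S0058

/-!
# Bounded derived subgroup from centralisers in coprime rank three action

If `E` is elementary abelian of order `q^3` acting coprimely on `K` and all `C_K(a)'` have bounded
order, then so has `K'`.
-/

set_option autoImplicit false

namespace CfsgLib.HallGen.CoprimeDerived

open Subgroup
open scoped commutatorElement Nat

variable {G : Type*} [Group G] [Finite G]

local notation "Fix" K:max b:max => K ⊓ Subgroup.centralizer ({b} : Set G)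

theorem relIndex_pos (H K : Subgroup G) : 1 ≤ H.relIndex K :=
  Nat.one_le_iff_ne_zero.2 index_ne_zero_of_finite

theorem relIndex_sup_of_le_normalizer {C F : Subgroup G} (h : F ≤ normalizer (C : Set G)) :
    C.relIndex (C ⊔ F) = C.relIndex F := by
  have e1 := relIndex_subgroupOf (H := C) (K := C ⊔ F) (L := normalizer (C : Set G)) (sup_le le_normalizer h)
  have e2 := relIndex_subgroupOf (H := C) (K := F) (L := normalizer (C : Set G)) h
  rw [← e1, ← e2, subgroupOf_sup le_normalizer h, sup_comm]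
  exact relIndex_sup_right ..

theorem relIndex_le_prod_fix {r : ℕ} [Fact r.Prime] (B P : Subgroup G) [IsMulCommutative B] (hB : ¬ IsCyclic B)
    (hP : IsPGroup r P) (hBP : B ≤ normalizer (P : Set G)) (hcop : (Nat.card B).Coprime (Nat.card P))
    (s : Finset G) (hs : ∀ b, b ∈ B → b ≠ 1 → b ∈ s) :
    ∀ C : Subgroup G, C ≤ P → B ≤ normalizer (C : Set G) →
      C.relIndex P ≤ ∏ b ∈ s, C.relIndex (Fix P b) := by
  intro C
  induction C using (wellFounded_gt (α := Subgroup G)).induction with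
  | _ C ih =>
  intro hCP hBC
  have hpos : ∀ b : G, 1 ≤ C.relIndex (Fix P b) := fun b => relIndex_pos _ _
  rcases hCP.eq_or_lt with rfl | hlt
  · rw [relIndex_self]
    exact Finset.one_le_prod' fun b _ => hpos b
  set N := P ⊓ normalizer (C : Set G) with hN
  have hBN : B ≤ normalizer (N : Set G) :=
    (le_inf hBP (hBC.trans le_normalizer)).trans inf_normalizer_le_normalizer_inf
  have hCN : C < N := by
    refine lt_of_le_of_ne (le_inf hCP le_normalizer) fun heq => ?_
    haveI := hP.isNilpotent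
    have h1 := Group.normalizerCondition_of_isNilpotent (G := P) (C.subgroupOf P) (lt_top_iff_ne_top.2 fun htop =>
      hlt.not_ge (subgroupOf_eq_top.1 htop))
    obtain ⟨y, hy, hy'⟩ := SetLike.exists_of_lt h1
    refine hy' ((heq.ge : N ≤ C) ⟨y.2, mem_normalizer_iff.2 fun c => ⟨fun hc => ?_, fun hc => ?_⟩⟩)
    · exact (mem_normalizer_iff.1 hy ⟨c, hCP hc⟩).1 hc
    · have hcP : c ∈ P := by
        have := P.mul_mem (P.mul_mem (P.inv_mem y.2) (hCP hc)) y.2
        simpa [mul_assoc] using this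
      exact (mem_normalizer_iff.1 hy ⟨c, hcP⟩).2 hc
  have hgen := Cfsg.Agent.S0058.result B N hB hBN (hcop.coprime_dvd_right (card_dvd_of_le inf_le_left))
  obtain ⟨b₀, hb₀B, hb₀1, hb₀⟩ : ∃ b, b ∈ B ∧ b ≠ 1 ∧ ¬ Fix N b ≤ C := by
    by_contra hc
    push_neg at hc
    exact hCN.not_ge (hgen.ge.trans (iSup₂_le fun b hb => hc b hb.1 hb.2))
  set F := Fix N b₀ with hF
  have hBF : B ≤ normalizer (F : Set G) := by
    refine (le_inf hBN ?_).trans inf_normalizer_le_normalizer_inf
    intro x hx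
    have hxb : ∀ y : G, y ∈ centralizer ({b₀} : Set G) ↔ x * y * x⁻¹ ∈ centralizer ({b₀} : Set G) := by
      have hc : x * b₀ = b₀ * x := congrArg Subtype.val (mul_comm' (⟨x, hx⟩ : B) ⟨b₀, hb₀B⟩)
      have hmem : x ∈ centralizer ({b₀} : Set G) := mem_centralizer_singleton_iff.2 hc
      exact mem_normalizer_iff.1 (le_normalizer hmem)
    exact mem_normalizer_iff.2 hxb
  set C₁ := C ⊔ F with hC₁
  have hC₁P : C₁ ≤ P := sup_le hCP (inf_le_left.trans inf_le_left)
  have hCC₁ : C < C₁ := lt_of_le_of_ne le_sup_left fun h => hb₀ (le_sup_right.trans h.ge)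
  have hFnorm : F ≤ normalizer (C : Set G) := inf_le_left.trans inf_le_right
  have hBC₁ : B ≤ normalizer (C₁ : Set G) := (le_inf hBC hBF).trans (normalizer_inf_normalizer_le_normalizer_sup _ _)
  have hrel : C.relIndex C₁ = C.relIndex F := by
    rw [hC₁, relIndex_sup_of_le_normalizer hFnorm]
  have hFle : ∀ b, C.relIndex (Fix P b) = C.relIndex (Fix C₁ b) * C₁.relIndex (Fix P b) := by
    intro b
    have h1 := relIndex_mul_relIndex (C ⊓ Fix C₁ b) (Fix C₁ b) (Fix P b) inf_le_right (inf_le_inf_right _ hC₁P)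
    rw [inf_relIndex_right] at h1
    rw [← inf_relIndex_right C₁ (Fix P b), show C₁ ⊓ Fix P b = Fix C₁ b by
      rw [← inf_assoc, inf_eq_left.2 hC₁P], h1, ← inf_relIndex_right C (Fix P b)]
    congr 1
    rw [← inf_assoc, ← inf_assoc, inf_eq_left.2 hCC₁.le, inf_eq_left.2 (hCC₁.le.trans hC₁P)]
  calc C.relIndex P = C.relIndex C₁ * C₁.relIndex P := (relIndex_mul_relIndex _ _ _ hCC₁.le hC₁P).symm
    _ ≤ (∏ b ∈ s, C.relIndex (Fix C₁ b)) * ∏ b ∈ s, C₁.relIndex (Fix P b) := by
        refine Nat.mul_le_mul ?_ (ih C₁ hCC₁ hC₁P hBC₁)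
        rw [hrel]
        refine le_trans ?_ (Finset.single_le_prod' (fun b _ => relIndex_pos _ _) (hs b₀ hb₀B hb₀1))
        exact relIndex_le_of_le_right (le_inf le_sup_right inf_le_right) index_ne_zero_of_finite
    _ = ∏ b ∈ s, C.relIndex (Fix P b) := by
        rw [← Finset.prod_mul_distrib]
        exact Finset.prod_congr rfl fun b _ => (hFle b).symm

/-- An element centralised by `B` has few conjugates, if it has few in each `C_K(b)`. -/
theorem relIndex_centralizer_dvd (B K : Subgroup G) [IsMulCommutative B] (hB : ¬ IsCyclic B)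
    (hBK : B ≤ normalizer (K : Set G)) (hcop : (Nat.card B).Coprime (Nat.card K)) {x : G}
    (hx : x ∈ centralizer (B : Set G)) {m : ℕ}
    (hm : ∀ b ∈ B, b ≠ 1 → (centralizer ({x} : Set G)).relIndex (Fix K b) ≤ m) :
    (centralizer ({x} : Set G)).relIndex K ∣ (m ^ Nat.card B)! := by
  classical
  have hBsolv : Group.IsSolvable B := Group.isSolvable_of_comm fun a b => mul_comm' a b
  haveI := Fintype.ofFinite G
  set Cx := centralizer ({x} : Set G) with hCx
  rw [Nat.dvd_iff_prime_pow_dvd_dvd]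
  intro r k hr hk
  haveI := Fact.mk hr
  obtain ⟨Q, hQ⟩ := CfsgLib.Core.exists_invariant_sylow hBK hcop (Or.inl hBsolv) r
  set P := (Q : Subgroup K).map K.subtype with hP
  have hPK : P ≤ K := map_subtype_le _
  set C := P ⊓ Cx with hC
  have hBC : B ≤ normalizer (C : Set G) := by
    refine (le_inf hQ ?_).trans inf_normalizer_le_normalizer_inf
    intro b hb
    have hbc : b ∈ Cx := mem_centralizer_singleton_iff.2 (mem_centralizer_iff.1 hx b hb)
    exact le_normalizer hbc
  set s := Finset.univ.filter fun b : G => b ∈ B ∧ b ≠ 1 with hs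
  have h1 := relIndex_le_prod_fix B P hB (Q.2.map _) hQ (hcop.coprime_dvd_right (card_dvd_of_le hPK)) s
    (fun b hb hb1 => by simp [hs, hb, hb1]) C inf_le_left hBC
  have h2 : C.relIndex P ≤ m ^ Nat.card B := by
    have h3 : ∀ b ∈ s, C.relIndex (Fix P b) ≤ m := by
      intro b hb
      simp only [hs, Finset.mem_filter, Finset.mem_univ, true_and] at hb
      refine le_trans ?_ (hm b hb.1 hb.2)
      rw [← inf_relIndex_right C (Fix P b), hC, inf_right_comm, ← inf_assoc P P, inf_idem,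
        inf_comm _ Cx, inf_relIndex_right]
      exact relIndex_le_of_le_right (inf_le_inf_right _ hPK) index_ne_zero_of_finite
    refine h1.trans ((Finset.prod_le_pow_card _ _ _ h3).trans ?_)
    rcases m.eq_zero_or_pos with rfl | hm0
    · obtain ⟨⟨b, hb⟩, hb1⟩ : ∃ b : B, b ≠ 1 := by
        by_contra hc
        push_neg at hc
        haveI : Subsingleton B := ⟨fun a c => (hc a).trans (hc c).symm⟩
        exact hB isCyclic_of_subsingleton
      have := (relIndex_pos Cx (Fix K b)).trans (hm b hb fun h => hb1 (Subtype.ext h))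
      omega
    · refine Nat.pow_le_pow_right hm0 ?_
      rw [Nat.card_eq_fintype_card]
      exact (Finset.card_le_card_of_injOn (fun b => if h : b ∈ B then (⟨b, h⟩ : B) else 1)
        (fun b _ => Finset.mem_univ _) fun a ha b hb hab => by
          simp only [hs, Finset.coe_filter, Finset.mem_univ, true_and, Set.mem_setOf_eq] at ha hb
          simpa [ha.1, hb.1] using hab).trans_eq Finset.card_univ
  refine Nat.dvd_factorial (pow_pos hr.pos _) (le_trans ?_ h2)
  refine Nat.le_of_dvd (relIndex_pos _ _) ?_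
  rw [hC, inf_comm, inf_relIndex_right]
  -- the `r`-part of the index is covered by the Sylow subgroup
  have hsplit := relIndex_mul_relIndex (C) (Cx ⊓ K) K (le_inf inf_le_right (inf_le_left.trans hPK)) inf_le_right
  have hsplit' := relIndex_mul_relIndex C P K inf_le_left hPK
  rw [inf_relIndex_right] at hsplit
  have hPidx : ¬ r ∣ P.relIndex K := by
    rw [hP, relIndex, subgroupOf, comap_map_eq_self_of_injective K.subtype_injective]
    exact Q.not_dvd_index
  have hdvd : r ^ k ∣ C.relIndex P * P.relIndex K := by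
    rw [hsplit', ← hsplit]
    exact dvd_mul_of_dvd_right hk _
  have h4 := ((hr.coprime_iff_not_dvd.2 hPidx).pow_left k).dvd_of_dvd_mul_right hdvd
  rwa [hC, inf_comm, inf_relIndex_right] at h4

theorem card_sup_zpowers {q : ℕ} (hq : q.Prime) {E B : Subgroup G} [IsMulCommutative E] (hBE : B ≤ E)
    {e : G} (he : e ∈ E) (heq : e ^ q = 1) (heB : e ∉ B) : Nat.card ↥(B ⊔ zpowers e) = Nat.card B * q := by
  haveI := Fact.mk hq
  have hord : orderOf e = q := orderOf_eq_prime heq fun h => heB (h ▸ B.one_mem)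
  have hinf : B ⊓ zpowers e = ⊥ := by
    have h1 := card_dvd_of_le (inf_le_right : B ⊓ zpowers e ≤ zpowers e)
    rw [Nat.card_zpowers, hord, Nat.dvd_prime hq] at h1
    rcases h1 with h1 | h1
    · exact eq_bot_of_card_eq _ h1
    · have h2 : B ⊓ zpowers e = zpowers e :=
        eq_of_le_of_card_ge inf_le_right (by rw [Nat.card_zpowers, hord, h1])
      exact absurd (h2.ge (mem_zpowers e)).1 heB
  have hn : B ≤ normalizer (zpowers e : Set G) := by
    refine le_trans ?_ (centralizer_le_normalizer _)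
    intro x hx
    rw [mem_centralizer_iff]
    rintro _ ⟨n, rfl⟩
    exact congrArg Subtype.val (mul_comm' (⟨e ^ n, E.zpow_mem he n⟩ : E) ⟨x, hBE hx⟩)
  have h := CfsgLib.Core.card_sup_mul_card_inf _ _ hn
  rw [hinf, card_bot, mul_one, Nat.card_zpowers, hord] at h
  exact h

theorem exists_disjoint_pair {q : ℕ} (hq : q.Prime) (E : Subgroup G) [IsMulCommutative E]
    (hE : Nat.card E = q ^ 3) (hexp : ∀ e ∈ E, e ^ q = 1) {b : G} (hb : b ∈ E) :
    ∃ B : Subgroup G, B ≤ E ∧ Nat.card B = q ^ 2 ∧ (b = 1 ∨ b ∉ B) := by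
  have hnot : ∀ H : Subgroup G, Nat.card H < Nat.card E → ∃ e ∈ E, e ∉ H := fun H hH => by
    by_contra hc
    push_neg at hc
    exact (Nat.le_of_dvd Nat.card_pos (card_dvd_of_le (hc : E ≤ H))).not_gt hH
  have h1 : q < q ^ 3 := by simpa using Nat.pow_lt_pow_right hq.one_lt (show 1 < 3 by norm_num)
  have h2 : q * q < q ^ 3 := by simpa [pow_two] using Nat.pow_lt_pow_right hq.one_lt (show 2 < 3 by norm_num)
  haveI := Fact.mk hq
  obtain ⟨b', hb', hb1', hbb⟩ : ∃ b' ∈ E, b' ≠ 1 ∧ (b = 1 ∨ b' = b) := by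
    by_cases hb1 : b = 1
    · obtain ⟨e, he, he1⟩ := hnot ⊥ (by rw [card_bot, hE]; exact hq.one_le.trans_lt h1)
      exact ⟨e, he, fun h => he1 (mem_bot.2 h), Or.inl hb1⟩
    · exact ⟨b, hb, hb1, Or.inr rfl⟩
  have hzb : Nat.card (zpowers b') = q := by rw [Nat.card_zpowers, orderOf_eq_prime (hexp _ hb') hb1']
  obtain ⟨c, hc, hcb⟩ := hnot (zpowers b') (by rw [hzb, hE]; exact h1)
  have hzbE : zpowers b' ≤ E := zpowers_le.2 hb'
  have hbc := card_sup_zpowers hq hzbE hc (hexp _ hc) hcb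
  rw [hzb] at hbc
  obtain ⟨d, hd, hdbc⟩ := hnot _ (by rw [hbc, hE]; exact h2)
  have hzc : Nat.card (zpowers c) = q := by
    rw [Nat.card_zpowers, orderOf_eq_prime (hexp _ hc) fun h => hcb (h ▸ one_mem _)]
  have hcd := card_sup_zpowers hq (zpowers_le.2 hc) hd (hexp _ hd) fun h => hdbc (mem_sup_right h)
  rw [hzc] at hcd
  refine ⟨zpowers c ⊔ zpowers d, sup_le (zpowers_le.2 hc) (zpowers_le.2 hd), by rw [hcd, pow_two], ?_⟩
  refine hbb.imp id fun hbb hmem => hdbc ?_
  rw [← hbb] at hmem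
  have hle : zpowers b' ⊔ zpowers c ≤ zpowers c ⊔ zpowers d := sup_le (zpowers_le.2 hmem) le_sup_left
  rw [eq_of_le_of_card_ge hle (by rw [hbc, hcd])]
  exact mem_sup_right (mem_zpowers d)

theorem not_isCyclic_of_card_sq {q : ℕ} (hq : q.Prime) (B : Subgroup G) (hB : Nat.card B = q ^ 2)
    (hexp : ∀ e ∈ B, e ^ q = 1) : ¬ IsCyclic B := by
  intro h
  obtain ⟨g, hg⟩ := IsCyclic.exists_generator (α := B)
  have h1 := orderOf_dvd_of_pow_eq_one (show g ^ q = 1 from Subtype.ext (by simpa using hexp g g.2))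
  rw [orderOf_eq_card_of_forall_mem_zpowers hg, hB] at h1
  have h2 := Nat.le_of_dvd hq.pos h1
  nlinarith [hq.two_le]

/-- The bound. -/
def bound (q m : ℕ) : ℕ := q ^ 3 * m * ((m ^ q ^ 2)! * (m ^ q ^ 2)!)

theorem card_commutator_le {q m : ℕ} (hq : q.Prime) (E K : Subgroup G) [IsMulCommutative E]
    (hE : Nat.card E = q ^ 3) (hexp : ∀ e ∈ E, e ^ q = 1)
    (hEK : E ≤ normalizer (K : Set G)) (hqK : ¬ q ∣ Nat.card K)
    (h : ∀ a ∈ E, a ≠ 1 → Nat.card ↥(⁅Fix K a, Fix K a⁆) ≤ m) :
    Nat.card ↥(⁅K, K⁆) ≤ (bound q m + 1) ^ (m ! * bound q m) := by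
  classical
  have hBfacts : ∀ B : Subgroup G, B ≤ E → Nat.card B = q ^ 2 →
      IsMulCommutative B ∧ ¬ IsCyclic B ∧ B ≤ normalizer (K : Set G) ∧ (Nat.card B).Coprime (Nat.card K) := by
    intro B hBE hB
    refine ⟨IsMulCommutative.of_comm fun a c => Subtype.ext ?_,
      not_isCyclic_of_card_sq hq B hB fun e he => hexp e (hBE he), hBE.trans hEK, ?_⟩
    · have e := congrArg Subtype.val (mul_comm' (⟨a, hBE a.2⟩ : E) ⟨c, hBE c.2⟩)
      simpa using e
    · rw [hB]; exact (hq.coprime_iff_not_dvd.2 hqK).pow_left 2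
  set X := {x : G | x ∈ K ∧ ∃ B : Subgroup G, B ≤ E ∧ Nat.card B = q ^ 2 ∧ x ∈ centralizer (B : Set G)} with hX
  -- generation
  have hgen : K ≤ closure X := by
    obtain ⟨B₀, hB₀E, hB₀, -⟩ := exists_disjoint_pair hq E hE hexp (one_mem E)
    obtain ⟨hc₀, hnc₀, hn₀, hco₀⟩ := hBfacts B₀ hB₀E hB₀
    haveI := hc₀
    refine (Cfsg.Agent.S0058.result B₀ K hnc₀ hn₀ hco₀).ge.trans (iSup₂_le ?_)
    rintro b ⟨hb, hb1⟩
    obtain ⟨B₁, hB₁E, hB₁, hbB₁⟩ := exists_disjoint_pair hq E hE hexp (hB₀E hb)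
    replace hbB₁ := hbB₁.resolve_left hb1
    obtain ⟨hc₁, hnc₁, hn₁, hco₁⟩ := hBfacts B₁ hB₁E hB₁
    haveI := hc₁
    have hnb : B₁ ≤ normalizer ((Fix K b : Subgroup G) : Set G) := by
      refine (le_inf hn₁ fun c hc => ?_).trans inf_normalizer_le_normalizer_inf
      refine le_normalizer (mem_centralizer_singleton_iff.2 ?_)
      exact congrArg Subtype.val (mul_comm' (⟨c, hB₁E hc⟩ : E) ⟨b, hB₀E hb⟩)
    refine (Cfsg.Agent.S0058.result B₁ _ hnc₁ hnb (hco₁.coprime_dvd_right (card_dvd_of_le inf_le_left))).ge.trans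
      (iSup₂_le ?_)
    rintro c ⟨hc, hc1⟩ x ⟨⟨hxK, hxb⟩, hxc⟩
    refine subset_closure ⟨hxK, closure {b, c}, ?_, ?_, ?_⟩
    · exact (closure_le _).2 (Set.insert_subset (hB₀E hb) (Set.singleton_subset_iff.2 (hB₁E hc)))
    · haveI := Fact.mk hq
      have hcb : c ∉ zpowers b := fun hcz => hbB₁ (by
        have hbord := orderOf_eq_prime (hexp _ (hB₀E hb)) hb1
        have hcord := orderOf_eq_prime (hexp _ (hB₁E hc)) hc1
        have hz : zpowers c = zpowers b := eq_of_le_of_card_ge (zpowers_le.2 hcz)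
          (by rw [Nat.card_zpowers, Nat.card_zpowers, hbord, hcord])
        exact zpowers_le.2 hc (hz.ge (mem_zpowers b)))
      rw [Set.insert_eq, Subgroup.closure_union, ← zpowers_eq_closure, ← zpowers_eq_closure,
        card_sup_zpowers hq (zpowers_le.2 (hB₀E hb)) (hB₁E hc) (hexp _ (hB₁E hc)) hcb,
        Nat.card_zpowers, orderOf_eq_prime (hexp _ (hB₀E hb)) hb1, pow_two]
    · rw [centralizer_closure]
      rw [mem_centralizer_iff]
      rintro _ (rfl | rfl)
      · exact (mem_centralizer_singleton_iff.1 hxb).symm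
      · exact (mem_centralizer_singleton_iff.1 hxc).symm
  -- each element of `X` has few conjugates
  have hclass : ∀ x ∈ X, (centralizer ({x} : Set G)).relIndex K ∣ (m ^ q ^ 2)! := by
    rintro x ⟨hxK, B, hBE, hB, hxB⟩
    obtain ⟨hc, hnc, hn, hco⟩ := hBfacts B hBE hB
    haveI := hc
    rw [← hB]
    refine relIndex_centralizer_dvd B K hnc hn hco hxB fun b hb hb1 => ?_
    set D := Fix K b
    have hxD : x ∈ D := ⟨hxK, mem_centralizer_singleton_iff.2 (mem_centralizer_iff.1 hxB b hb).symm⟩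
    refine le_trans ?_ (h b (hBE hb) hb1)
    refine Nat.card_le_card_of_injective (fun y : ↥D ⧸ (centralizer ({x} : Set G)).subgroupOf D =>
      (⟨⁅(y.out : G), x⁆, commutator_mem_commutator y.out.2 hxD⟩ : ↥(⁅D, D⁆))) ?_
    intro y z hyz
    have e : ⁅(y.out : G), x⁆ = ⁅(z.out : G), x⁆ := congrArg Subtype.val hyz
    rw [← y.out_eq, ← z.out_eq]
    refine QuotientGroup.eq.2 (mem_subgroupOf.2 (mem_centralizer_singleton_iff.2 ?_))
    simp only [commutatorElement_def] at e
    have e' := mul_right_cancel e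
    push_cast
    calc ((y.out : G))⁻¹ * z.out * x = (y.out : G)⁻¹ * (z.out * x * (z.out : G)⁻¹) * z.out := by group
      _ = (y.out : G)⁻¹ * ((y.out : G) * x * (y.out : G)⁻¹) * z.out := by rw [e']
      _ = x * ((y.out : G)⁻¹ * z.out) := by group
  -- the commutators
  set T := {c : G | ∃ x ∈ X, ∃ y ∈ X, ⁅x, y⁆ = c} with hT
  have hTmem : ∀ c ∈ T, ∃ a : E, (a : G) ≠ 1 ∧ c ∈ ⁅Fix K (a : G), Fix K (a : G)⁆ := by
    rintro _ ⟨x, ⟨hxK, B, hBE, hB, hxB⟩, y, ⟨hyK, B', hBE', hB', hyB⟩, rfl⟩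
    obtain ⟨a, ha, ha'⟩ : ∃ a ∈ B ⊓ B', a ≠ 1 := by
      by_contra hc
      push_neg at hc
      have h0 : B ⊓ B' = ⊥ := (eq_bot_iff_forall _).2 hc
      have h1 : Nat.card (B × B') ≤ Nat.card E := by
        refine Nat.card_le_card_of_injective (fun z : B × B' => (⟨z.1 * z.2, E.mul_mem (hBE z.1.2) (hBE' z.2.2)⟩ : E))
          fun z w hzw => ?_
        have e : (z.1 : G) * z.2 = w.1 * w.2 := congrArg Subtype.val hzw
        exact mul_injective_of_disjoint (disjoint_iff.2 h0) e
      rw [Nat.card_prod, hB, hB', hE, ← pow_add] at h1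
      exact absurd h1 (not_le.2 (Nat.pow_lt_pow_right hq.one_lt (by norm_num)))
    refine ⟨⟨a, hBE ha.1⟩, ha', commutator_mem_commutator ?_ ?_⟩
    · exact ⟨hxK, mem_centralizer_singleton_iff.2 (mem_centralizer_iff.1 hxB a ha.1).symm⟩
    · exact ⟨hyK, mem_centralizer_singleton_iff.2 (mem_centralizer_iff.1 hyB a ha.2).symm⟩
  have hTK : T ⊆ K := by
    rintro _ ⟨x, hx, y, hy, rfl⟩
    exact K.mul_mem (K.mul_mem (K.mul_mem hx.1 hy.1) (K.inv_mem hx.1)) (K.inv_mem hy.1)
  have hTord : ∀ c ∈ T, c ^ m ! = 1 := by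
    intro c hc
    obtain ⟨a, ha, hca⟩ := hTmem c hc
    have h1 : orderOf c ≤ m := le_trans (by
      rw [show orderOf c = orderOf (⟨c, hca⟩ : ↥(⁅Fix K (a : G), Fix K (a : G)⁆)) from Subgroup.orderOf_coe ⟨c, hca⟩]
      exact Nat.le_of_dvd Nat.card_pos (_root_.orderOf_dvd_natCard _)) (h a a.2 ha)
    exact orderOf_dvd_iff_pow_eq_one.1 (Nat.dvd_factorial (orderOf_pos c) h1)
  have hTcard : Nat.card T ≤ q ^ 3 * m := by
    haveI := Fintype.ofFinite E
    choose a ha hca using hTmem
    calc Nat.card T ≤ Nat.card (Σ a : {a : E // (a : G) ≠ 1}, ↥(⁅Fix K (a.1 : G), Fix K (a.1 : G)⁆)) := by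
          refine Nat.card_le_card_of_injective
            (fun c : T => ⟨⟨a c c.2, ha c c.2⟩, ⟨c.1, hca c c.2⟩⟩) fun c d hcd => Subtype.ext ?_
          exact congrArg (fun z : Σ a : {a : E // (a : G) ≠ 1}, ↥(⁅Fix K (a.1 : G), Fix K (a.1 : G)⁆) =>
            (z.2 : G)) hcd
      _ = ∑ a : {a : E // (a : G) ≠ 1}, Nat.card ↥(⁅Fix K (a.1 : G), Fix K (a.1 : G)⁆) := Nat.card_sigma
      _ ≤ ∑ _a : {a : E // (a : G) ≠ 1}, m := Finset.sum_le_sum fun a _ => h _ a.1.2 a.2
      _ ≤ q ^ 3 * m := by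
          rw [Finset.sum_const, smul_eq_mul, Finset.card_univ, ← Nat.card_eq_fintype_card, ← hE]
          exact Nat.mul_le_mul_right _ (Finite.card_subtype_le _)
  set S : Set K := {s | ∃ c : T, ∃ k : K, k * ⟨c.1, hTK c.2⟩ * k⁻¹ = s} with hS
  have hSinv : ∀ g : K, ∀ s ∈ S, g * s * g⁻¹ ∈ S := by
    rintro g _ ⟨c, k, rfl⟩
    exact ⟨c, g * k, by group⟩
  have hSord : ∀ s ∈ S, s ^ m ! = 1 := by
    rintro _ ⟨c, k, rfl⟩
    rw [conj_pow, show (⟨c.1, hTK c.2⟩ : K) ^ m ! = 1 from Subtype.ext (hTord c.1 c.2), mul_one, mul_inv_cancel]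
  have hScard : Nat.card S ≤ bound q m := by
    choose x hx y hy hxy using fun c : T => c.2
    let cos : G → Type _ := fun z => ↥K ⧸ (centralizer ({z} : Set G)).subgroupOf K
    let F : (Σ c : T, (cos (x c) × cos (y c))) → G := fun z =>
      ⁅((z.2.1.out : K) : G) * x z.1 * ((z.2.1.out : K) : G)⁻¹,
        ((z.2.2.out : K) : G) * y z.1 * ((z.2.2.out : K) : G)⁻¹⁆
    have hout : ∀ (z : G) (k : K), ((Quotient.out (QuotientGroup.mk k :
        ↥K ⧸ (centralizer ({z} : Set G)).subgroupOf K) : K) : G) * z *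
        ((Quotient.out (QuotientGroup.mk k : ↥K ⧸ (centralizer ({z} : Set G)).subgroupOf K) : K) : G)⁻¹ =
        (k : G) * z * (k : G)⁻¹ := by
      intro z k
      obtain ⟨u, hu⟩ := QuotientGroup.mk_out_eq_mul ((centralizer ({z} : Set G)).subgroupOf K) k
      have := mem_centralizer_singleton_iff.1 (mem_subgroupOf.1 u.2)
      rw [hu, Subgroup.coe_mul, mul_inv_rev, mul_assoc (k : G), this]
      group
    have hsub : Subtype.val '' S ⊆ Set.range F := by
      rintro _ ⟨_, ⟨c, k, rfl⟩, rfl⟩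
      refine ⟨⟨c, QuotientGroup.mk k, QuotientGroup.mk k⟩, ?_⟩
      show ⁅_, _⁆ = _
      rw [hout, hout, ← conjugate_commutatorElement, hxy]
      rfl
    calc Nat.card S = Nat.card (Subtype.val '' S) := (Nat.card_image_of_injective Subtype.val_injective _).symm
      _ ≤ Nat.card (Set.range F) := Nat.card_mono (Set.finite_range F) hsub
      _ ≤ Nat.card (Σ c : T, (cos (x c) × cos (y c))) := Finite.card_range_le F
      _ ≤ bound q m := by
        haveI := Fintype.ofFinite T
        rw [Nat.card_sigma]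
        refine (Finset.sum_le_card_nsmul _ _ ((m ^ q ^ 2)! * (m ^ q ^ 2)!) fun c _ => ?_).trans ?_
        · rw [Nat.card_prod]
          exact Nat.mul_le_mul (Nat.le_of_dvd (Nat.factorial_pos _) (hclass _ (hx c)))
            (Nat.le_of_dvd (Nat.factorial_pos _) (hclass _ (hy c)))
        · rw [smul_eq_mul, Finset.card_univ, ← Nat.card_eq_fintype_card]
          exact Nat.mul_le_mul_right _ hTcard
  have hD := Dietzmann.card_closure_le hSinv (Nat.factorial_pos m) hSord hScard
  haveI hSn : (closure S).Normal := by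
    refine ⟨fun n hn g => ?_⟩
    have : n ∈ (closure S).comap (MulAut.conj g).toMonoidHom := by
      refine (closure_le _).2 (fun s hs => ?_) hn
      exact subset_closure (hSinv g s hs)
    exact this
  refine le_trans ?_ hD
  rw [← card_map_of_injective (K := closure S) K.subtype_injective]
  refine Nat.le_of_dvd Nat.card_pos (card_dvd_of_le ?_)
  set Q := QuotientGroup.mk' (closure S)
  have hcommX : ∀ a b : K, (a : G) ∈ X → (b : G) ∈ X → Commute (Q a) (Q b) := by
    intro a b ha hb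
    rw [commute_iff_eq, ← commutatorElement_eq_one_iff_mul_comm, ← map_commutatorElement]
    refine (QuotientGroup.eq_one_iff _).2 (subset_closure ⟨⟨⁅(a : G), b⁆, a, ha, b, hb, rfl⟩, 1, ?_⟩)
    simp only [one_mul, inv_one, mul_one]
    rfl
  have htop : ∀ g : K, g ∈ closure {a : K | (a : G) ∈ X} := by
    intro g
    have h1 := hgen g.2
    have h2 : closure X = (closure {a : K | (a : G) ∈ X}).map K.subtype := by
      rw [MonoidHom.map_closure]
      congr 1
      ext z
      exact ⟨fun hz => ⟨⟨z, hz.1⟩, hz, rfl⟩, fun ⟨w, hw, hwz⟩ => hwz ▸ hw⟩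
    rw [h2] at h1
    exact (mem_map_iff_mem K.subtype_injective).1 h1
  have hcommAll : ∀ a b : K, Commute (Q a) (Q b) := by
    intro a b
    induction htop a using closure_induction with
    | mem u hu =>
      induction htop b using closure_induction with
      | mem v hv => exact hcommX u v hu hv
      | one => simpa using Commute.one_right (Q u)
      | mul v w _ _ h1 h2 => simpa using h1.mul_right h2
      | inv v _ h1 => simpa using h1.inv_right
    | one => simpa using Commute.one_left (Q b)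
    | mul u v _ _ h1 h2 => simpa using h1.mul_left h2
    | inv u _ h1 => simpa using h1.inv_left
  rw [Subgroup.commutator_le]
  intro a ha b hb
  refine ⟨⁅(⟨a, ha⟩ : K), ⟨b, hb⟩⁆, (QuotientGroup.eq_one_iff _).1 ?_, rfl⟩
  show Q _ = 1
  rw [map_commutatorElement]
  exact commutatorElement_eq_one_iff_mul_comm.2 (hcommAll _ _)

end CfsgLib.HallGen.CoprimeDerived
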